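import Mathlib

/-!
# Special linear matrices are commutators étale locally
-/

set_option autoImplicit false
universe u v

open Matrix Polynomial
open scoped commutatorElement

noncomputable section

namespace Groth.Agent.EtaleCommLib

variable {n : ℕ} {R : Type u} [CommRing R]

/-- The monoid generated by the transvections. -/
def elem (n : ℕ) (R : Type u) [CommRing R] : Submonoid (Matrix (Fin n) (Fin n) R) :=
  Submonoid.closure (Set.range fun t : TransvectionStruct (Fin n) R => t.toMatrix)

theorem transvection_mem {i j : Fin n} (h : i ≠ j) (c : R) : transvection i j c ∈ elem n R :=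
  Submonoid.subset_closure ⟨⟨i, j, h, c⟩, rfl⟩

theorem of_transvection_mul {i j : Fin n} (h : i ≠ j) (c : R) {M : Matrix (Fin n) (Fin n) R}
    (hM : transvection i j c * M ∈ elem n R) : M ∈ elem n R := by
  have h1 := mul_mem (transvection_mem h (-c)) hM
  rwa [← mul_assoc, transvection_mul_transvection_same i j h, neg_add_cancel, transvection_zero, one_mul] at h1

theorem of_mul_transvection {i j : Fin n} (h : i ≠ j) (c : R) {M : Matrix (Fin n) (Fin n) R}
    (hM : M * transvection i j c ∈ elem n R) : M ∈ elem n R := by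
  have h1 := mul_mem hM (transvection_mem h (-c))
  rwa [mul_assoc, transvection_mul_transvection_same i j h, add_neg_cancel, transvection_zero, mul_one] at h1

/-- The matrix agrees with the identity outside the block indexed by `S`. -/
def IdOff (S : Finset (Fin n)) (M : Matrix (Fin n) (Fin n) R) : Prop :=
  ∀ a b, (a ∉ S ∨ b ∉ S) → M a b = (1 : Matrix (Fin n) (Fin n) R) a b

theorem idOff_mul_left {S : Finset (Fin n)} {M : Matrix (Fin n) (Fin n) R} (hM : IdOff S M) {i j : Fin n}
    (hi : i ∈ S) (hj : j ∈ S) (c : R) : IdOff S (transvection i j c * M) := by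
  intro a b hab
  rcases eq_or_ne a i with rfl | ha
  · have hb : b ∉ S := hab.resolve_left (fun h => h hi)
    have hjb : M j b = 0 := by rw [hM j b (Or.inr hb), one_apply_ne]; rintro rfl; exact hb hj
    rw [transvection_mul_apply_same, hM a b (Or.inr hb), hjb, mul_zero, add_zero]
  · rw [transvection_mul_apply_of_ne _ _ _ _ ha]
    exact hM a b hab

theorem idOff_mul_right {S : Finset (Fin n)} {M : Matrix (Fin n) (Fin n) R} (hM : IdOff S M) {i j : Fin n}
    (hi : i ∈ S) (hj : j ∈ S) (c : R) : IdOff S (M * transvection i j c) := by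
  intro a b hab
  rcases eq_or_ne b j with rfl | hb
  · have ha : a ∉ S := hab.resolve_right (fun h => h hj)
    have hai : M a i = 0 := by rw [hM a i (Or.inl ha), one_apply_ne]; rintro rfl; exact ha hi
    rw [mul_transvection_apply_same, hM a b (Or.inl ha), hai, mul_zero, add_zero]
  · rw [mul_transvection_apply_of_ne _ _ _ _ hb]
    exact hM a b hab

/-- Clearing the row and column of a pivot equal to one. -/
theorem mem_elem_pivot {S : Finset (Fin n)} {i : Fin n} (hi : i ∈ S)
    (ih : ∀ M : Matrix (Fin n) (Fin n) R, M.det = 1 → IdOff (S.erase i) M → M ∈ elem n R)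
    (M : Matrix (Fin n) (Fin n) R) (hdet : M.det = 1) (hM : IdOff S M) (hii : M i i = 1) : M ∈ elem n R := by
  classical
  suffices h : ∀ (T T' : Finset (Fin n)) (M : Matrix (Fin n) (Fin n) R), i ∉ T → i ∉ T' → T ⊆ S → T' ⊆ S →
      M.det = 1 → IdOff S M → M i i = 1 → (∀ a, a ≠ i → a ∉ T → M a i = 0) → (∀ b, b ≠ i → b ∉ T' → M i b = 0) →
      M ∈ elem n R by
    refine h (S.erase i) (S.erase i) M (Finset.notMem_erase i S) (Finset.notMem_erase i S)
      (Finset.erase_subset _ _) (Finset.erase_subset _ _) hdet hM hii (fun a ha hT => ?_) (fun b hb hT => ?_)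
    · rw [hM a i (Or.inl fun h => hT (Finset.mem_erase.2 ⟨ha, h⟩)), one_apply_ne ha]
    · rw [hM i b (Or.inr fun h => hT (Finset.mem_erase.2 ⟨hb, h⟩)), one_apply_ne hb.symm]
  intro T
  induction T using Finset.induction_on with
  | empty =>
    intro T'
    induction T' using Finset.induction_on with
    | empty =>
      intro M _ _ _ _ hdet hM hii hc hr
      refine ih M hdet fun a b hab => ?_
      by_cases h : a ∉ S ∨ b ∉ S
      · exact hM a b h
      simp only [not_or, not_not] at h
      rcases hab with hab | hab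
      · obtain rfl : a = i := by_contra fun hne => hab (Finset.mem_erase.2 ⟨hne, h.1⟩)
        rcases eq_or_ne b a with rfl | hne
        · rw [hii, one_apply_eq]
        · rw [hr b hne (Finset.notMem_empty b), one_apply_ne hne.symm]
      · obtain rfl : b = i := by_contra fun hne => hab (Finset.mem_erase.2 ⟨hne, h.2⟩)
        rcases eq_or_ne a b with rfl | hne
        · rw [hii, one_apply_eq]
        · rw [hc a hne (Finset.notMem_empty a), one_apply_ne hne]
    | @insert b T' hbT' ih' =>
      intro M h1 h2 h3 h4 hdet hM hii hc hr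
      have hib : i ≠ b := fun h => h2 (h ▸ Finset.mem_insert_self b T')
      refine of_mul_transvection hib (-(M i b)) (ih' _ h1 (fun h => h2 (Finset.mem_insert_of_mem h)) h3
        (fun x hx => h4 (Finset.mem_insert_of_mem hx)) ?_ (idOff_mul_right hM hi (h4 (Finset.mem_insert_self b T')) _)
        ?_ (fun a ha haT => ?_) (fun b' hb' hb'T => ?_))
      · rw [det_mul, hdet, det_transvection_of_ne _ _ hib, mul_one]
      · rw [mul_transvection_apply_of_ne _ _ _ _ hib, hii]
      · rw [mul_transvection_apply_of_ne _ _ _ _ hib, hc a ha haT]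
      · rcases eq_or_ne b' b with rfl | hne
        · rw [mul_transvection_apply_same, hii, mul_one, add_neg_cancel]
        · rw [mul_transvection_apply_of_ne _ _ _ _ hne, hr b' hb' (by simp [hne, hb'T])]
  | @insert a T haT ihT =>
    intro T' M h1 h2 h3 h4 hdet hM hii hc hr
    have hai : a ≠ i := fun h => h1 (h ▸ Finset.mem_insert_self a T)
    refine of_transvection_mul hai (-(M a i)) (ihT T' _ (fun h => h1 (Finset.mem_insert_of_mem h)) h2
      (fun x hx => h3 (Finset.mem_insert_of_mem hx)) h4 ?_ (idOff_mul_left hM (h3 (Finset.mem_insert_self a T)) hi _)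
      ?_ (fun a' ha' ha'T => ?_) (fun b hb hbT => ?_))
    · rw [det_mul, hdet, det_transvection_of_ne _ _ hai, mul_one]
    · rw [transvection_mul_apply_of_ne _ _ _ _ hai.symm, hii]
    · rcases eq_or_ne a' a with rfl | hne
      · rw [transvection_mul_apply_same, hii, mul_one, add_neg_cancel]
      · rw [transvection_mul_apply_of_ne _ _ _ _ hne, hc a' ha' (by simp [hne, ha'T])]
    · rw [transvection_mul_apply_of_ne _ _ _ _ hai.symm, hr b hb hbT]

/-- Over a local ring every matrix of determinant one is a product of transvections. -/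
theorem mem_elem_of_det_one [IsLocalRing R] : ∀ (m : ℕ) (S : Finset (Fin n)), S.card = m →
    ∀ M : Matrix (Fin n) (Fin n) R, M.det = 1 → IdOff S M → M ∈ elem n R
  | 0, S, hS, M, _, hM => by
    obtain rfl := Finset.card_eq_zero.1 hS
    have : M = 1 := Matrix.ext fun a b => hM a b (Or.inl (Finset.notMem_empty a))
    rw [this]
    exact one_mem _
  | m + 1, S, hS, M, hdet, hM => by
    classical
    obtain ⟨i, hi⟩ := Finset.card_pos.1 (by omega : 0 < S.card)
    have ih : ∀ N : Matrix (Fin n) (Fin n) R, N.det = 1 → IdOff (S.erase i) N → N ∈ elem n R :=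
      mem_elem_of_det_one m (S.erase i) (by rw [Finset.card_erase_of_mem hi]; omega)
    by_cases hone : ∃ l ∈ S, l ≠ i
    swap
    · have hSi : ∀ l, l ∈ S → l = i := fun l hl => by_contra fun hne => hone ⟨l, hl, hne⟩
      have hdiag : M = diagonal (fun a => if a = i then M i i else 1) := Matrix.ext fun a b => by
        by_cases h : a ∈ S ∧ b ∈ S
        · rw [hSi a h.1, hSi b h.2, diagonal_apply_eq, if_pos rfl]
        · rw [hM a b (not_and_or.1 h)]
          rcases eq_or_ne a b with rfl | hne
          · rw [one_apply_eq, diagonal_apply_eq, if_neg (fun h' => (not_and_or.1 h).elim (fun g => g (by rw [h']; exact hi)) (fun g => g (by rw [h']; exact hi)))]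
          · rw [one_apply_ne hne, diagonal_apply_ne _ hne]
      have hii : M i i = 1 := by
        rw [hdiag, det_diagonal] at hdet
        simpa using hdet
      exact mem_elem_pivot hi ih M hdet hM hii
    obtain ⟨l, hl, hli⟩ := hone
    -- a unit in column `i`
    obtain ⟨j, hj, hju⟩ : ∃ j ∈ S, IsUnit (M j i) := by
      by_contra hno
      have hm : ∀ a, M a i ∈ IsLocalRing.maximalIdeal R := fun a => by
        by_cases ha : a ∈ S
        · exact (IsLocalRing.mem_maximalIdeal _).2 fun hu => hno ⟨a, ha, hu⟩
        · rw [hM a i (Or.inl ha), one_apply_ne (fun h : a = i => ha (h ▸ hi))]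
          exact zero_mem _
      have h0 : (M.map (IsLocalRing.residue R)).det = 0 :=
        det_eq_zero_of_column_eq_zero i fun a => Ideal.Quotient.eq_zero_iff_mem.2 (hm a)
      rw [← RingHom.mapMatrix_apply, ← RingHom.map_det, hdet, map_one] at h0
      exact one_ne_zero h0
    -- make the pivot a unit
    obtain ⟨M1, hdet1, hM1, hu1, hback1⟩ : ∃ M1 : Matrix (Fin n) (Fin n) R, M1.det = 1 ∧ IdOff S M1 ∧
        IsUnit (M1 i i) ∧ (M1 ∈ elem n R → M ∈ elem n R) := by
      by_cases hu : IsUnit (M i i)
      · exact ⟨M, hdet, hM, hu, id⟩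
      · have hij : i ≠ j := fun h => hu (h ▸ hju)
        refine ⟨transvection i j 1 * M, ?_, idOff_mul_left hM hi hj 1, ?_, of_transvection_mul hij 1⟩
        · rw [det_mul, hdet, det_transvection_of_ne _ _ hij, one_mul]
        · rw [transvection_mul_apply_same, one_mul]
          refine (IsLocalRing.isUnit_or_isUnit_of_isUnit_add (a := M i i + M j i) (b := -(M i i)) (by simpa using hju)).resolve_right ?_
          rwa [IsUnit.neg_iff]
    refine hback1 ?_
    obtain ⟨u, hu⟩ := hu1
    let c : R := (1 - M1 l i) * ↑u⁻¹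
    refine of_transvection_mul hli c ?_
    let M2 := transvection l i c * M1
    have hM2l : M2 l i = 1 := by
      show (transvection l i c * M1) l i = 1
      rw [transvection_mul_apply_same, ← hu]
      show _ + (1 - M1 l i) * ↑u⁻¹ * ↑u = 1
      rw [mul_assoc, Units.inv_mul, mul_one, add_sub_cancel]
    refine of_transvection_mul hli.symm (1 - M2 i i) ?_
    refine mem_elem_pivot hi ih _ ?_ (idOff_mul_left (idOff_mul_left hM1 hl hi _) hi hl _) ?_
    · rw [det_mul, det_mul, hdet1, det_transvection_of_ne _ _ hli, det_transvection_of_ne _ _ hli.symm, one_mul, one_mul]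
    · rw [transvection_mul_apply_same]
      show M2 i i + (1 - M2 i i) * M2 l i = 1
      rw [hM2l, mul_one, add_sub_cancel]

theorem mem_elem [IsLocalRing R] (M : Matrix (Fin n) (Fin n) R) (h : M.det = 1) : M ∈ elem n R :=
  mem_elem_of_det_one _ Finset.univ rfl M h fun a b hab => absurd (Finset.mem_univ a) (hab.elim id fun h => absurd (Finset.mem_univ b) h)

/-- Elementary products are defined on a neighbourhood. -/
theorem exists_spread (q : Ideal R) [q.IsPrime] {x : Matrix (Fin n) (Fin n) (Localization.AtPrime q)}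
    (hx : x ∈ elem n (Localization.AtPrime q)) :
    ∃ h ∉ q, ∀ (B : Type u) [CommRing B] [Algebra R B], IsUnit (algebraMap R B h) →
      ∀ ψ : B →ₐ[R] Localization.AtPrime q, ∃ y ∈ elem n B, y.map ψ = x := by
  induction hx using Submonoid.closure_induction with
  | mem x hx =>
    obtain ⟨⟨i, j, hij, c⟩, rfl⟩ := hx
    obtain ⟨a, s, rfl⟩ := IsLocalization.exists_mk'_eq q.primeCompl c
    refine ⟨s, s.2, fun B _ _ hs ψ => ⟨transvection i j (algebraMap R B a * ↑hs.unit⁻¹), transvection_mem hij _, ?_⟩⟩
    have hc : ψ (algebraMap R B a * ↑hs.unit⁻¹) = IsLocalization.mk' (Localization.AtPrime q) a s := by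
      rw [IsLocalization.eq_mk'_iff_mul_eq]
      conv_lhs => rw [← ψ.commutes s, ← map_mul, mul_assoc, IsUnit.val_inv_mul, mul_one]
      exact ψ.commutes a
    show _ = transvection i j (IsLocalization.mk' (Localization.AtPrime q) a s)
    ext r t
    simp only [transvection, Matrix.map_apply, Matrix.add_apply, Matrix.single_apply, Matrix.one_apply]
    split_ifs <;> simp [hc]
  | one =>
    exact ⟨1, fun h => (Ideal.IsPrime.ne_top ‹_›) ((Ideal.eq_top_iff_one q).2 h),
      fun B _ _ _ ψ => ⟨1, one_mem _, Matrix.map_one _ (map_zero ψ) (map_one ψ)⟩⟩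
  | mul x y _ _ hx hy =>
    obtain ⟨h1, h1q, hx⟩ := hx
    obtain ⟨h2, h2q, hy⟩ := hy
    refine ⟨h1 * h2, fun h => (Ideal.IsPrime.mem_or_mem ‹_› h).elim h1q h2q, fun B _ _ hu ψ => ?_⟩
    rw [map_mul, IsUnit.mul_iff] at hu
    obtain ⟨x', hx', rfl⟩ := hx B hu.1 ψ
    obtain ⟨y', hy', rfl⟩ := hy B hu.2 ψ
    exact ⟨x' * y', mul_mem hx' hy', Matrix.map_mul⟩

theorem elem_map {B : Type u} [CommRing B] (f : R →+* B) {M : Matrix (Fin n) (Fin n) R} (hM : M ∈ elem n R) :
    M.map f ∈ elem n B := by
  induction hM using Submonoid.closure_induction with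
  | mem x hx =>
    obtain ⟨⟨i, j, hij, c⟩, rfl⟩ := hx
    convert transvection_mem hij (f c) using 1
    ext r t
    simp only [TransvectionStruct.toMatrix_mk, transvection, Matrix.map_apply, Matrix.add_apply, Matrix.single_apply, Matrix.one_apply]
    split_ifs <;> simp
  | one => rw [Matrix.map_one _ (map_zero f) (map_one f)]; exact one_mem _
  | mul x y _ _ hx hy => rw [Matrix.map_mul]; exact mul_mem hx hy

/-- A matrix of determinant one is an elementary product near every prime. -/
theorem exists_away_mem_elem (q : Ideal R) [q.IsPrime] (M : Matrix (Fin n) (Fin n) R) (hM : M.det = 1) :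
    ∃ g ∉ q, M.map (algebraMap R (Localization.Away g)) ∈ elem n (Localization.Away g) := by
  classical
  let L := Localization.AtPrime q
  have hL : M.map (algebraMap R L) ∈ elem n L := mem_elem _ (by
    rw [← RingHom.mapMatrix_apply, ← RingHom.map_det, hM, map_one])
  obtain ⟨h, hhq, hh⟩ := exists_spread q hL
  let Bh := Localization.Away h
  have huL : IsUnit (algebraMap R L h) := IsLocalization.map_units L (⟨h, hhq⟩ : q.primeCompl)
  let ψ : Bh →ₐ[R] L :=
    { IsLocalization.Away.lift h (g := algebraMap R L) huL with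
      commutes' := fun r => IsLocalization.Away.lift_eq h huL r }
  obtain ⟨y, hy, hyM⟩ := hh Bh (IsLocalization.Away.algebraMap_isUnit h) ψ
  have hkill : ∀ a : Bh, ψ a = 0 → ∃ t ∉ q, algebraMap R Bh t * a = 0 := fun a ha => by
    obtain ⟨b, s, rfl⟩ := IsLocalization.exists_mk'_eq (Submonoid.powers h) a
    have h1 : algebraMap R L b = 0 := by
      rw [← ψ.commutes b, ← IsLocalization.mk'_spec Bh b s, map_mul, ha, zero_mul]
    obtain ⟨t, ht⟩ := (IsLocalization.map_eq_zero_iff q.primeCompl L b).1 h1
    refine ⟨t, t.2, ?_⟩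
    rw [IsLocalization.mul_mk'_eq_mk'_of_mul, ht, IsLocalization.mk'_zero]
  have hz : ∀ a b, ∃ t ∉ q, algebraMap R Bh t * (y a b - algebraMap R Bh (M a b)) = 0 := fun a b => hkill _ (by
    have := congrFun (congrFun hyM a) b
    rw [Matrix.map_apply] at this
    rw [map_sub, ψ.commutes, this, Matrix.map_apply, sub_self])
  choose t ht htz using hz
  let g := h * ∏ p : Fin n × Fin n, t p.1 p.2
  have hgq : g ∉ q := fun hg => by
    rcases Ideal.IsPrime.mem_or_mem ‹_› hg with h' | h'
    · exact hhq h'
    · obtain ⟨p, -, hp⟩ := (Ideal.IsPrime.prod_mem_iff (p := q)).1 h'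
      exact ht _ _ hp
  refine ⟨g, hgq, ?_⟩
  let Bg := Localization.Away g
  have hgu : IsUnit (algebraMap R Bg g) := IsLocalization.Away.algebraMap_isUnit g
  rw [map_mul, map_prod, IsUnit.mul_iff, IsUnit.prod_iff] at hgu
  let θ : Bh →+* Bg := IsLocalization.Away.lift h (g := algebraMap R Bg) hgu.1
  have hθ : ∀ r, θ (algebraMap R Bh r) = algebraMap R Bg r := IsLocalization.Away.lift_eq h hgu.1
  convert elem_map θ hy using 1
  ext a b
  rw [Matrix.map_apply, Matrix.map_apply, ← hθ]
  have h0 := congrArg θ (htz a b)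
  rw [map_mul, map_zero, hθ, map_sub] at h0
  exact (sub_eq_zero.1 ((IsUnit.mul_right_eq_zero (hgu.2 (a, b) (Finset.mem_univ _))).1 h0)).symm

/-- With a unit `u` such that `u - 1` is a unit, transvections are commutators. -/
theorem exists_commutator_of_elem {u : R} (hu : IsUnit u) (hu1 : IsUnit (u - 1))
    {M : Matrix (Fin n) (Fin n) R} (hM : M ∈ elem n R) :
    ∃ g ∈ commutator (GeneralLinearGroup (Fin n) R), (g : Matrix (Fin n) (Fin n) R) = M := by
  classical
  induction hM using Submonoid.closure_induction with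
  | mem x hx =>
    obtain ⟨⟨i, j, hij, c⟩, rfl⟩ := hx
    let d : Fin n → R := fun a => if a = i then u else 1
    let d' : Fin n → R := fun a => if a = i then ↑hu.unit⁻¹ else 1
    have hdd : ∀ a, d a * d' a = 1 := fun a => by
      simp only [d, d']; split_ifs
      · exact hu.mul_val_inv
      · exact one_mul 1
    let D : GeneralLinearGroup (Fin n) R := ⟨diagonal d, diagonal d',
      by rw [diagonal_mul_diagonal, ← diagonal_one]; exact congrArg _ (funext hdd),
      by rw [diagonal_mul_diagonal, ← diagonal_one]; exact congrArg _ (funext fun a => (mul_comm _ _).trans (hdd a))⟩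
    let c' : R := ↑hu1.unit⁻¹ * c
    let T : GeneralLinearGroup (Fin n) R := ⟨transvection i j c', transvection i j (-c'),
      by rw [transvection_mul_transvection_same i j hij, add_neg_cancel, transvection_zero],
      by rw [transvection_mul_transvection_same i j hij, neg_add_cancel, transvection_zero]⟩
    refine ⟨⁅D, T⁆, Subgroup.commutator_mem_commutator (Subgroup.mem_top D) (Subgroup.mem_top T), ?_⟩
    show diagonal d * transvection i j c' * diagonal d' * transvection i j (-c') = _
    have hconj : diagonal d * transvection i j c' * diagonal d' = transvection i j (u * c') := by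
      ext r t
      rw [mul_diagonal, diagonal_mul]
      simp only [transvection, Matrix.add_apply, Matrix.one_apply, Matrix.single_apply]
      rcases eq_or_ne r t with rfl | hne
      · have h1 : ¬ (i = r ∧ j = r) := fun h => hij (h.1.trans h.2.symm)
        simp [if_neg h1, hdd]
      · rw [if_neg hne, zero_add, zero_add]
        split_ifs with h
        · obtain ⟨rfl, rfl⟩ := h
          simp [d, d', hne.symm]
        · rw [mul_zero, zero_mul]
    rw [hconj, transvection_mul_transvection_same i j hij]
    show _ = transvection i j c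
    congr 1
    show u * (↑hu1.unit⁻¹ * c) + -(↑hu1.unit⁻¹ * c) = c
    calc u * (↑hu1.unit⁻¹ * c) + -(↑hu1.unit⁻¹ * c) = ((u - 1) * ↑hu1.unit⁻¹) * c := by ring
      _ = c := by rw [IsUnit.mul_val_inv, one_mul]
  | one => exact ⟨1, one_mem _, rfl⟩
  | mul x y _ _ hx hy =>
    obtain ⟨g, hg, rfl⟩ := hx
    obtain ⟨g', hg', rfl⟩ := hy
    exact ⟨g * g', mul_mem hg hg', rfl⟩

/-- An étale neighbourhood of any prime with a unit `u` such that `u - 1` is a unit. -/
theorem exists_etale_unit (A : Type u) [CommRing A] (p : Ideal A) [p.IsPrime] :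
    ∃ (B : Type u) (_ : CommRing B) (_ : Algebra A B), Algebra.Etale A B ∧
      (∃ q : Ideal B, q.IsPrime ∧ q.comap (algebraMap A B) = p) ∧ ∃ u : B, IsUnit u ∧ IsUnit (u - 1) := by
  by_cases h3 : (3 : A) ∈ p
  · have h2 : (2 : A) ∉ p := fun h2 => (Ideal.IsPrime.ne_top ‹_›) ((Ideal.eq_top_iff_one p).2 (by
      have := sub_mem h3 h2; norm_num at this; exact this))
    let B := Localization.Away (2 : A)
    have hd : Disjoint (Submonoid.powers (2 : A) : Set A) (p : Set A) :=
      (Ideal.disjoint_powers_iff_notMem _ (Ideal.IsPrime.isRadical ‹_›)).2 h2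
    refine ⟨B, inferInstance, inferInstance, Algebra.Etale.of_isLocalizationAway (2 : A),
      ⟨p.map (algebraMap A B), IsLocalization.isPrime_of_isPrime_disjoint _ B p ‹_› hd,
        IsLocalization.under_map_of_isPrime_disjoint _ B ‹_› hd⟩, -1, isUnit_one.neg, ?_⟩
    have h : IsUnit (algebraMap A B 2) := IsLocalization.Away.algebraMap_isUnit 2
    rw [map_ofNat] at h
    rw [show (-1 - 1 : B) = -2 by ring]
    exact h.neg
  · let P : StandardEtalePair A :=
      { f := X ^ 2 + X + 1
        monic_f := by monicity!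
        g := 3
        cond := ⟨-(2 * X + 1), 4, 1, by
          simp only [derivative_add, derivative_pow, derivative_X, derivative_one]
          norm_num [map_ofNat]
          ring⟩ }
    let K := AlgebraicClosure p.ResidueField
    letI : Algebra A K := ((algebraMap p.ResidueField K).comp (algebraMap A p.ResidueField)).toAlgebra
    obtain ⟨z, hz⟩ := IsAlgClosed.exists_root (X ^ 2 + X + 1 : K[X]) (by
      rw [show (X ^ 2 + X + 1 : K[X]).degree = 2 by compute_degree!]; norm_num)
    have hkerA : RingHom.ker (algebraMap A K) = p := by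
      ext a
      show (algebraMap p.ResidueField K) (algebraMap A p.ResidueField a) = 0 ↔ _
      rw [map_eq_zero, Ideal.algebraMap_residueField_eq_zero]
    have h3K : (3 : K) ≠ 0 := fun h => h3 (by
      rw [← hkerA, RingHom.mem_ker, map_ofNat]; exact h)
    have hmap : P.HasMap z := by
      refine ⟨?_, ?_⟩
      · simpa [P, IsRoot.def] using hz
      · have e : aeval z P.g = 3 := map_ofNat (aeval z) 3
        rw [e]
        exact h3K.isUnit
    let φ := P.lift z hmap
    refine ⟨P.Ring, inferInstance, inferInstance, inferInstance,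
      ⟨RingHom.ker φ.toRingHom, RingHom.ker_isPrime _, ?_⟩, P.X, ?_, ?_⟩
    · rw [RingHom.comap_ker]
      convert hkerA using 2
      exact φ.comp_algebraMap
    · have h1 : P.X ^ 2 + P.X + 1 = 0 := by simpa [P] using P.hasMap_X.1
      exact IsUnit.of_mul_eq_one (-(P.X + 1)) (by linear_combination -h1)
    · have h1 : P.X ^ 2 + P.X + 1 = 0 := by simpa [P] using P.hasMap_X.1
      have h3u : IsUnit (3 : P.Ring) := by simpa [P, aeval_C, map_ofNat] using P.hasMap_X.2
      have h4 : (P.X - 1) * (P.X + 2) = -3 := by linear_combination h1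
      exact (IsUnit.mul_iff.1 (h4 ▸ h3u.neg)).1

end Groth.Agent.EtaleCommLib
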